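import Cfsg.Agent.H34.SporJ2
import Cfsg.Agent.H704.DegOK
import Cfsg.Agent.H704.LowDegree
import Cfsg.Agent.H704.Enum

/-!
# S4906, row `J2` (helper953)

* `arith` : only for `n = 10` can both `36, 63` be degrees or half degrees of `S_n`, `n ≥ 5`;
* `exists_36`, `exists_63` : characters of `J2`;
* `row_J2` : `DegOK n J2`, `5 ≤ n` imply `n = 10`.
-/

set_option autoImplicit false

namespace Cfsg.Agent.H953.DS

open Cfsg Cfsg.Agent.H704 Cfsg.Agent.H34.SporTool Cfsg.Agent
open Cfsg.Agent.H690.Spor.RankThree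

universe u

theorem deg11 {d : ℕ} (h : IsDeg 11 d) : d ≠ 63 ∧ d ≠ 126 := by
  have := check_of_isDeg (chk := fun d => decide (d ≠ 63) && decide (d ≠ 126)) (by decide +kernel) h
  simpa using this

theorem deg12 {d : ℕ} (h : IsDeg 12 d) : d ≠ 63 ∧ d ≠ 126 := by
  have := check_of_isDeg (chk := fun d => decide (d ≠ 63) && decide (d ≠ 126)) (by decide +kernel) h
  simpa using this

theorem deg13 {d : ℕ} (h : IsDeg 13 d) : d ≠ 63 ∧ d ≠ 126 := by
  have := check_of_isDeg (chk := fun d => decide (d ≠ 63) && decide (d ≠ 126)) (by decide +kernel) h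
  simpa using this

/-- both 36 and 63 are degrees or half degrees of `S_n` only for `n = 10` -/
theorem arith {n a b : ℕ} (hn : 5 ≤ n) (ha : IsDeg n a) (hb : IsDeg n b) (ha' : a = 36 ∨ a = 72)
    (hb' : b = 63 ∨ b = 126) : n = 10 := by
  have hs := deg_small ha
  rcases Nat.lt_or_ge n 10 with h | h
  · exfalso
    obtain ⟨h5, h6, h7, h8, h9⟩ := hs
    have hc : n = 5 ∨ n = 6 ∨ n = 7 ∨ n = 8 ∨ n = 9 := by omega
    rcases hc with rfl | rfl | rfl | rfl | rfl
    · have := h5 rfl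
      rcases ha' with rfl | rfl <;> simp at this
    · have := h6 rfl
      rcases ha' with rfl | rfl <;> simp at this
    · have := h7 rfl
      rcases ha' with rfl | rfl <;> simp at this
    · have := h8 rfl
      rcases ha' with rfl | rfl <;> simp at this
    · have := h9 rfl
      rcases ha' with rfl | rfl <;> simp at this
  · by_contra hne
    have h1 : n ≤ 13 ∨ n = 37 ∨ n = 73 := by
      rcases low_degree (by omega) ha with h2 | h2 | h2
      · omega
      · omega
      · left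
        by_contra hcon
        push Not at hcon
        have h3 : 14 * 11 ≤ n * (n - 3) := Nat.mul_le_mul (by omega) (by omega)
        omega
    rcases h1 with h1 | rfl | rfl
    · have hc : n = 11 ∨ n = 12 ∨ n = 13 := by omega
      rcases hc with rfl | rfl | rfl
      · have := deg11 hb; omega
      · have := deg12 hb; omega
      · have := deg13 hb; omega
    · rcases low_degree (by omega) hb with h2 | h2 | h2 <;> omega
    · rcases low_degree (by omega) hb with h2 | h2 | h2 <;> omega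

theorem exists_pair [Finite Spor.J2] : ∃ χ₁ χ₂ : IrrCharacter Spor.J2, charDegree (χ₁ : Spor.J2 → ℂ) = 36 ∧
    charDegree (χ₂ : Spor.J2 → ℂ) = 63 := by
  obtain ⟨H, hi, -, c₁, c₂, h1, h2⟩ := S1624.result
  obtain ⟨R, hR⟩ := R3.of_index H (k := 36) (l := 63) hi h1 h2 (by norm_num) (by norm_num) (by norm_num)
  obtain ⟨χ₁, χ₂, h3, h4, -⟩ := frame_pair hR 36 63 rfl [64, 63, 65, 11, 17, 19, 23] (by decide) 6 (by norm_num)
    (by omega) (by decide +kernel)
  exact ⟨χ₁, χ₂, h3, h4⟩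

theorem exists_irr {K : Type u} [Group K] [Finite K] (h : Spor.IsoJ2 K) :
    (∃ ψ : K → ℂ, IsIrrCharacter K ψ ∧ ψ 1 = 36) ∧ ∃ ψ : K → ℂ, IsIrrCharacter K ψ ∧ ψ 1 = 63 := by
  obtain ⟨e⟩ := h
  have hfin : Finite Spor.J2 := Finite.of_equiv _ e.toEquiv
  obtain ⟨χ₁, χ₂, h1, h2⟩ := exists_pair
  refine ⟨⟨_, Cfsg.Agent.Characters.Core.isIrr_comp e.toMonoidHom e.surjective χ₁.2, ?_⟩,
    ⟨_, Cfsg.Agent.Characters.Core.isIrr_comp e.toMonoidHom e.surjective χ₂.2, ?_⟩⟩
  · rw [Function.comp_apply, map_one, Cfsg.Agent.Blocks.Basic.irr_one_eq_charDegree χ₁.2, h1]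
    norm_num
  · rw [Function.comp_apply, map_one, Cfsg.Agent.Blocks.Basic.irr_one_eq_charDegree χ₂.2, h2]
    norm_num

/-- **row `J2`** -/
theorem row_J2 {K : Type u} [Group K] [Finite K] (h : Spor.IsoJ2 K) {n : ℕ} (hn : 5 ≤ n) (hd : DegOK n K) :
    n = 10 := by
  obtain ⟨⟨ψ, h1, h2⟩, φ, h3, h4⟩ := exists_irr h
  obtain ⟨a, ha, ha'⟩ := hd ψ h1
  obtain ⟨b, hb, hb'⟩ := hd φ h3
  rw [h2] at ha'
  rw [h4] at hb'
  refine arith hn ha hb ?_ ?_
  · rcases ha' with h | h
    · left; exact_mod_cast h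
    · right
      have : (a : ℂ) = ((72 : ℕ) : ℂ) := by rw [h]; norm_num
      exact_mod_cast this
  · rcases hb' with h | h
    · left; exact_mod_cast h
    · right
      have : (b : ℂ) = ((126 : ℕ) : ℂ) := by rw [h]; norm_num
      exact_mod_cast this

end Cfsg.Agent.H953.DS
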